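import Mathlib
import Groth.Agent.Lib.Helper5.Stalk.LpullAdj

/-!
# Morphisms from cellular complexes to direct images of K-injective complexes (helper5)

For a cellular complex `P` on `Y` and a K-injective complex `I` on `X`, morphisms `P ⟶ f_* I`
in the homotopy category are the same as morphisms in the derived category.
-/
set_option autoImplicit false
set_option linter.unusedSectionVars false
set_option linter.unusedVariables false
set_option linter.style.haveILetI false
universe u
open CategoryTheory CategoryTheory.Limits HomologicalComplex AlgebraicGeometry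
attribute [local instance] HasDerivedCategory.standard

namespace Groth.Agent.Lib.Helper5.RGamPush

open Groth.Agent.Lib.Helper5.LpullLib Groth.Agent.Lib.Helper5.KFlatSiteQ
  Groth.Agent.Lib.Helper5.KProj Groth.Agent.Lib.Helper5.KProj.DerHo
  Groth.Agent.Helper3.KInjDer

variable {X Y : Scheme.{u}} (f : X ⟶ Y) [DCoh.HasLpull f] [DCoh.HasRpush f]

/-- `f_*` on homotopy categories -/
noncomputable abbrev pushK : HomotopyCategory X.Modules (ComplexShape.up ℤ) ⥤
    HomotopyCategory Y.Modules (ComplexShape.up ℤ) :=
  (Scheme.Modules.pushforward f).mapHomotopyCategory (ComplexShape.up ℤ)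

/-- `f^*` on homotopy categories -/
noncomputable abbrev pullK : HomotopyCategory Y.Modules (ComplexShape.up ℤ) ⥤
    HomotopyCategory X.Modules (ComplexShape.up ℤ) :=
  (Scheme.Modules.pullback f).mapHomotopyCategory (ComplexShape.up ℤ)

/-- the derived adjunction on morphisms coming from the homotopy category -/
theorem homEquiv_symm_Qh_map (P : HomotopyCategory Y.Modules (ComplexShape.up ℤ))
    (I : HomotopyCategory X.Modules (ComplexShape.up ℤ)) (φ : P ⟶ (pushK f).obj I) :
    ((lpullRpushAdj f).homEquiv (DerivedCategory.Qh.obj P) (DerivedCategory.Qh.obj I)).symm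
        (DerivedCategory.Qh.map φ ≫ (rpushUnit f).app I) =
      (lpullCounit f).app P ≫ DerivedCategory.Qh.map (((adjK f).homEquiv P I).symm φ) := by
  haveI := isLeft_lpull_rpush f
  haveI := isRight_rpush_lpull f
  rw [Adjunction.homEquiv_counit, Adjunction.homEquiv_counit, Functor.map_comp, Category.assoc]
  have h1 := Adjunction.derivedε_fac_app (adjK f) (WK X) (lpullCounit f) (rpushUnit f) I
  have h2 := (lpullCounit f).naturality φ
  have h3 : (lpullRpushAdj f).counit.app (DerivedCategory.Qh.obj I) =
      ((adjK f).derivedε (WK X) (lpullCounit f) (rpushUnit f)).app (DerivedCategory.Qh.obj I) := rfl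
  rw [h3, h1]
  rw [Functor.map_comp]
  calc (DCoh.Lpull f).map (DerivedCategory.Qh.map φ) ≫
        (lpullCounit f).app ((pushK f).obj I) ≫ DerivedCategory.Qh.map ((adjK f).counit.app I)
      = ((DerivedCategory.Qh ⋙ DCoh.Lpull f).map φ ≫ (lpullCounit f).app ((pushK f).obj I)) ≫
          DerivedCategory.Qh.map ((adjK f).counit.app I) := by
        rw [Category.assoc]; rfl
    _ = ((lpullCounit f).app P ≫ (DCoh.pullKh f).map φ) ≫
          DerivedCategory.Qh.map ((adjK f).counit.app I) := by rw [h2]
    _ = _ := by
        rw [Category.assoc]; rfl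

/-- **cellular complexes see `f_*` of K-injective complexes in the homotopy category** -/
theorem bijective_Qh_map_push (P : CochainComplex Y.Modules ℤ) (hP : Cell Y.sheaf P)
    (I : CochainComplex X.Modules ℤ) [I.IsKInjective] :
    Function.Bijective (fun φ : (HomotopyCategory.quotient Y.Modules (ComplexShape.up ℤ)).obj P ⟶
        (pushK f).obj ((HomotopyCategory.quotient X.Modules (ComplexShape.up ℤ)).obj I) =>
      DerivedCategory.Qh.map φ) := by
  let P' := (HomotopyCategory.quotient Y.Modules (ComplexShape.up ℤ)).obj P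
  let I' := (HomotopyCategory.quotient X.Modules (ComplexShape.up ℤ)).obj I
  haveI hβ : IsIso ((rpushUnit f).app I') := isIso_unit_app (DCoh.pushKh f) (rpushUnit f) I
  haveI hα : IsIso ((lpullCounit f).app P') :=
    isIso_counit_app (adaptedCell f) (DCoh.Lpull f) (lpullCounit f) P hP
  have hQ : Function.Bijective (fun ψ : (pullK f).obj P' ⟶ I' => DerivedCategory.Qh.map ψ) :=
    CochainComplex.IsKInjective.Qh_map_bijective ((pullK f).obj P') I
  -- the composite bijection
  let Φ : (P' ⟶ (pushK f).obj I') → (DerivedCategory.Qh.obj P' ⟶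
      (DCoh.Rpush f).obj (DerivedCategory.Qh.obj I')) :=
    fun φ => DerivedCategory.Qh.map φ ≫ (rpushUnit f).app I'
  have hΦ : ∀ φ, Φ φ = ((lpullRpushAdj f).homEquiv _ _)
      ((lpullCounit f).app P' ≫ DerivedCategory.Qh.map (((adjK f).homEquiv P' I').symm φ)) := by
    intro φ
    rw [← homEquiv_symm_Qh_map f P' I' φ, Equiv.apply_symm_apply]
  have hΦbij : Function.Bijective Φ := by
    have e : Φ = (fun ψ => ((lpullRpushAdj f).homEquiv _ _) ((lpullCounit f).app P' ≫ ψ)) ∘
        (fun ψ : (pullK f).obj P' ⟶ I' => DerivedCategory.Qh.map ψ) ∘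
        (fun φ => ((adjK f).homEquiv P' I').symm φ) := by
      funext φ; exact hΦ φ
    rw [e]
    refine Function.Bijective.comp ?_ (Function.Bijective.comp hQ (Equiv.bijective _))
    refine Function.Bijective.comp (Equiv.bijective _) ?_
    constructor
    · intro a b hab
      exact (cancel_epi _).1 hab
    · intro b
      exact ⟨inv ((lpullCounit f).app P') ≫ b, by simp⟩
  constructor
  · intro a b hab
    apply hΦbij.1
    show DerivedCategory.Qh.map a ≫ _ = DerivedCategory.Qh.map b ≫ _
    have : DerivedCategory.Qh.map a = DerivedCategory.Qh.map b := hab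
    rw [this]
  · intro b
    obtain ⟨a, ha⟩ := hΦbij.2 (b ≫ (rpushUnit f).app I')
    refine ⟨a, ?_⟩
    exact (cancel_mono ((rpushUnit f).app I')).1 ha

end Groth.Agent.Lib.Helper5.RGamPush
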