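import Mathlib
import Groth.Agent.Lib.Helper5.RGamPush.HomKD
import Groth.Agent.Lib.Helper5.KFlatSite2.TensorUnit
import Groth.Agent.Lib.Helper5.KFlatSite2.TorOne
import Groth.Agent.Lib.Helper5.LTen.FlatAmp
import Groth.Agent.Lib.Helper5.MV.MVGamma
import Groth.Agent.Lib.Helper5.TorAmp.FlatAcyc
import Groth.Agent.Lib.Helper3.KInjD

/-!
# A criterion for a complex to compute `RΓ` (helper5)

A complex `C` of `O_Z`-modules computes `RΓ(Z, C)` as soon as the morphisms from the shifted
structure sheaves to `C` (and to `C[1]`) in the homotopy category agree with the morphisms in the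
derived category.
-/
set_option autoImplicit false
set_option linter.unusedSectionVars false
set_option linter.unusedVariables false
set_option linter.style.haveILetI false
universe u
open CategoryTheory CategoryTheory.Limits HomologicalComplex AlgebraicGeometry Opposite
open Pretriangulated
attribute [local instance] HasDerivedCategory.standard

namespace Groth.Agent.Lib.Helper5.RGamPush

open Groth.Agent.Lib.Helper5.LpullLib Groth.Agent.Lib.Helper5.KFlatSiteQ
  Groth.Agent.Helper3.KInjDer Groth.Agent.Lib.Helper5.MV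

section Flat

variable {C : Type u} [SmallCategory C] {J : GrothendieckTopology C} (O : Sheaf J CommRingCat.{u})

theorem isFlat_unit : ModSite.IsFlat (ModSite.unit O) :=
  ⟨preservesFiniteLimits_of_natIso (Groth.Agent.Lib.Helper5.TensorUnit.unitIso O).symm,
    preservesFiniteColimits_of_natIso (Groth.Agent.Lib.Helper5.TensorUnit.unitIso O).symm⟩

theorem isFlat_of_isZero (M : ModSite.Mod O) (h : IsZero M) : ModSite.IsFlat M := by
  have h1 := Groth.Agent.Lib.Helper5.FlatAmp.isFlat_sigma O (fun _ : Empty => M) (fun i => i.elim)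
  have hz : IsZero (∐ (fun _ : Empty => M)) := by
    rw [IsZero.iff_id_eq_zero]
    apply Sigma.hom_ext
    intro i
    exact i.elim
  exact Groth.Agent.Lib.Helper5.Pure.isFlat_of_iso (hz.iso h) h1

end Flat

variable (Z : Scheme.{u})

/-- the structure sheaf placed in degree `n` -/
noncomputable abbrev unitS (n : ℤ) : CochainComplex Z.Modules ℤ :=
  (HomologicalComplex.single Z.Modules (ComplexShape.up ℤ) n).obj (Coh.structureModule Z)

theorem cell_unitS (n : ℤ) : Cell Z.sheaf (unitS Z n) := by
  refine Cell.zero _ (fun i j => ?_) (fun m => ?_)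
  · exact HomologicalComplex.single_obj_d _ _ _ _ _
  · by_cases h : m = n
    · subst h
      exact Groth.Agent.Lib.Helper5.Pure.isFlat_of_iso
        (HomologicalComplex.singleObjXSelf (ComplexShape.up ℤ) m (Coh.structureModule Z)).symm
        (isFlat_unit Z.sheaf)
    · exact isFlat_of_isZero Z.sheaf _
        (HomologicalComplex.isZero_single_obj_X (ComplexShape.up ℤ) n _ m h)

variable {Z}

section Sections

variable (M : Z.Modules)

/-- the compatible family of restrictions of a global section -/
noncomputable def secOf (x : M.presheaf.obj (op ⊤)) : M.sections :=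
  PresheafOfModules.sectionsMk
    (fun V => M.presheaf.map (homOfLE (le_top : V.unop ≤ ⊤)).op x)
    (fun V V' g => by
      change (M.presheaf.map _ ≫ M.presheaf.map _) x = _
      rw [← Functor.map_comp]
      rfl)

lemma secOf_val_top (x : M.presheaf.obj (op ⊤)) : (secOf M x).val (op ⊤) = x := by
  change (M.presheaf.map (homOfLE (le_top : (⊤ : Z.Opens) ≤ ⊤)).op) x = x
  have : (homOfLE (le_top : (⊤ : Z.Opens) ≤ ⊤)).op = 𝟙 (op (⊤ : Z.Opens)) := rfl
  rw [this, CategoryTheory.Functor.map_id]
  rfl

lemma secOf_val (s : M.sections) : secOf M (s.val (op ⊤)) = s := by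
  apply PresheafOfModules.sections_ext
  intro V
  exact PresheafOfModules.sections_property s (homOfLE (le_top : V.unop ≤ ⊤)).op

/-- morphisms from the structure sheaf are global sections -/
noncomputable def secEquiv : (Coh.structureModule Z ⟶ M) ≃ M.presheaf.obj (op ⊤) where
  toFun g := ((SheafOfModules.unitHomEquiv M) g).val (op ⊤)
  invFun x := (SheafOfModules.unitHomEquiv M).symm (secOf M x)
  left_inv g :=
    (congrArg (SheafOfModules.unitHomEquiv M).symm (secOf_val M _)).trans
      (Equiv.symm_apply_apply _ _)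
  right_inv x :=
    (congrArg (fun s : M.sections => s.val (op ⊤))
      (Equiv.apply_symm_apply (SheafOfModules.unitHomEquiv M) (secOf M x))).trans
      (secOf_val_top M x)

variable {M}

lemma secEquiv_comp {N : Z.Modules} (g : Coh.structureModule Z ⟶ M) (φ : M ⟶ N) :
    secEquiv N (g ≫ φ) = φ.app ⊤ (secEquiv M g) := rfl

lemma secEquiv_zero : secEquiv M (0 : Coh.structureModule Z ⟶ M) = 0 := by
  show ((SheafOfModules.unitHomEquiv M) 0).val (op ⊤) = 0
  rw [SheafOfModules.unitHomEquiv_apply_coe]
  rfl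

end Sections

section Acyclic

/-- if every morphism from the structure sheaf in degree `n` to `E` is null-homotopic, the
complex of global sections of `E` is exact in degree `n` -/
theorem exactAt_gamma_of_hom_eq_zero (E : CochainComplex Z.Modules ℤ) (n : ℤ)
    (h : ∀ g : (HomotopyCategory.quotient Z.Modules (ComplexShape.up ℤ)).obj (unitS Z n) ⟶
      (HomotopyCategory.quotient Z.Modules (ComplexShape.up ℤ)).obj E, g = 0) :
    ((gammaC Z).obj E).ExactAt n := by
  rw [HomologicalComplex.exactAt_iff' _ (n - 1) n (n + 1) (by simp) (by simp),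
    ShortComplex.ab_exact_iff]
  intro x hx
  let σ : Coh.structureModule Z ⟶ E.X n := (secEquiv (E.X n)).symm x
  have hσx : secEquiv (E.X n) σ = x := Equiv.apply_symm_apply _ _
  have hσ : σ ≫ E.d n (n + 1) = 0 := by
    apply (secEquiv (E.X (n + 1))).injective
    rw [secEquiv_comp, hσx, secEquiv_zero]
    exact hx
  let ξ : unitS Z n ⟶ E := HomologicalComplex.mkHomFromSingle σ (fun k hk => by
    have hk' : n + 1 = k := hk
    subst hk'
    exact hσ)
  obtain ⟨hty⟩ := (HomotopyCategory.quotient_map_eq_zero_iff ξ).1 (h _)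
  have hcomm := hty.comm n
  rw [dNext_eq hty.hom (show (ComplexShape.up ℤ).Rel n (n + 1) from rfl),
    prevD_eq hty.hom (show (ComplexShape.up ℤ).Rel (n - 1) n by simp),
    HomologicalComplex.single_obj_d, zero_comp, zero_add, HomologicalComplex.zero_f,
    add_zero, HomologicalComplex.mkHomFromSingle_f] at hcomm
  let τ : Coh.structureModule Z ⟶ E.X (n - 1) :=
    (HomologicalComplex.singleObjXSelf (ComplexShape.up ℤ) n (Coh.structureModule Z)).inv ≫
      hty.hom n (n - 1)
  have hτ : τ ≫ E.d (n - 1) n = σ := by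
    rw [Category.assoc, ← hcomm, Iso.inv_hom_id_assoc]
  refine ⟨secEquiv (E.X (n - 1)) τ, ?_⟩
  have := secEquiv_comp τ (E.d (n - 1) n)
  rw [hτ, hσx] at this
  exact this.symm

/-- vanishing of the morphisms from the shifted structure sheaves forces `Γ` to be acyclic -/
theorem isZero_gammaKh_of_hom_eq_zero (E : CochainComplex Z.Modules ℤ)
    (h : ∀ (n : ℤ) (g : (HomotopyCategory.quotient Z.Modules (ComplexShape.up ℤ)).obj (unitS Z n) ⟶
      (HomotopyCategory.quotient Z.Modules (ComplexShape.up ℤ)).obj E), g = 0) :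
    IsZero ((DCoh.gammaKh Z).obj
      ((HomotopyCategory.quotient Z.Modules (ComplexShape.up ℤ)).obj E)) := by
  have h1 : IsZero (DerivedCategory.Q.obj ((gammaC Z).obj E)) := by
    rw [Groth.Agent.Helper5.FlatAcyc.isZero_Q_iff_acyclic]
    intro n
    exact exactAt_gamma_of_hom_eq_zero E n (h n)
  exact h1

end Acyclic

section Criterion

variable {W A B : HomotopyCategory Z.Modules (ComplexShape.up ℤ)}

theorem injective_comp_of_Qh (a : A ⟶ B) [IsIso (DerivedCategory.Qh.map a)]
    (hA : Function.Injective (fun φ : W ⟶ A => DerivedCategory.Qh.map φ)) :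
    Function.Injective (fun k : W ⟶ A => k ≫ a) := by
  intro k k' hkk
  apply hA
  have h1 : DerivedCategory.Qh.map (k ≫ a) = DerivedCategory.Qh.map (k' ≫ a) :=
    congrArg (fun m => DerivedCategory.Qh.map m) hkk
  rw [Functor.map_comp, Functor.map_comp] at h1
  exact (cancel_mono (DerivedCategory.Qh.map a)).1 h1

theorem surjective_comp_of_Qh (a : A ⟶ B) [IsIso (DerivedCategory.Qh.map a)]
    (hA : Function.Surjective (fun φ : W ⟶ A => DerivedCategory.Qh.map φ))
    (hB : Function.Injective (fun φ : W ⟶ B => DerivedCategory.Qh.map φ)) :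
    Function.Surjective (fun k : W ⟶ A => k ≫ a) := by
  intro m
  obtain ⟨k, hk⟩ := hA (DerivedCategory.Qh.map m ≫ inv (DerivedCategory.Qh.map a))
  refine ⟨k, hB ?_⟩
  show DerivedCategory.Qh.map (k ≫ a) = DerivedCategory.Qh.map m
  have hk' : DerivedCategory.Qh.map k = DerivedCategory.Qh.map m ≫
      inv (DerivedCategory.Qh.map a) := hk
  rw [Functor.map_comp, hk', Category.assoc, IsIso.inv_hom_id, Category.comp_id]

variable [DCoh.HasRΓ Z]

/-- the unit of `RΓ` -/
noncomputable abbrev rgammaUnit (Z : Scheme.{u}) [DCoh.HasRΓ Z] :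
    DCoh.gammaKh Z ⟶ DerivedCategory.Qh ⋙ DCoh.RΓ Z :=
  (DCoh.gammaKh Z).totalRightDerivedUnit DerivedCategory.Qh (WK Z)

/-- **criterion for computing `RΓ`** -/
theorem isIso_rgammaUnit_of_bijective (C : CochainComplex Z.Modules ℤ)
    (h₀ : ∀ n : ℤ, Function.Surjective
      (fun φ : (HomotopyCategory.quotient Z.Modules (ComplexShape.up ℤ)).obj (unitS Z n) ⟶
        (HomotopyCategory.quotient Z.Modules (ComplexShape.up ℤ)).obj C =>
          DerivedCategory.Qh.map φ))
    (h₁ : ∀ n : ℤ, Function.Injective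
      (fun φ : (HomotopyCategory.quotient Z.Modules (ComplexShape.up ℤ)).obj (unitS Z n) ⟶
        ((HomotopyCategory.quotient Z.Modules (ComplexShape.up ℤ)).obj C)⟦(1 : ℤ)⟧ =>
          DerivedCategory.Qh.map φ)) :
    IsIso ((rgammaUnit Z).app ((HomotopyCategory.quotient Z.Modules (ComplexShape.up ℤ)).obj C)) := by
  obtain ⟨J, s, hJ, hs, -, -⟩ := Groth.Agent.Helper3.KInjD.exists_kInjective_resolution C
  haveI := hJ
  let T := CochainComplex.mappingCone.triangleh s
  have hT : T ∈ distTriang (HomotopyCategory Z.Modules (ComplexShape.up ℤ)) :=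
    ⟨_, _, s, ⟨Iso.refl _⟩⟩
  let a : (HomotopyCategory.quotient Z.Modules (ComplexShape.up ℤ)).obj C ⟶
      (HomotopyCategory.quotient Z.Modules (ComplexShape.up ℤ)).obj J :=
    (HomotopyCategory.quotient Z.Modules (ComplexShape.up ℤ)).map s
  have ha : WK Z a := (HomotopyCategory.quotient_map_mem_quasiIso_iff s).2 hs
  haveI hQa : IsIso (DerivedCategory.Qh.map a) := Localization.inverts DerivedCategory.Qh (WK Z) a ha
  have ha1 : WK Z (a⟦(1 : ℤ)⟧') :=
    (MorphismProperty.IsCompatibleWithShift.iff (WK Z) a (1 : ℤ)).2 ha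
  haveI hQa1 : IsIso (DerivedCategory.Qh.map (a⟦(1 : ℤ)⟧')) :=
    Localization.inverts DerivedCategory.Qh (WK Z) _ ha1
  -- vanishing of the morphisms to the cone
  have hvan : ∀ (n : ℤ) (g : (HomotopyCategory.quotient Z.Modules (ComplexShape.up ℤ)).obj
      (unitS Z n) ⟶ (HomotopyCategory.quotient Z.Modules (ComplexShape.up ℤ)).obj
        (CochainComplex.mappingCone s)), g = 0 := by
    intro n g
    have h31 : T.mor₃ ≫ a⟦(1 : ℤ)⟧' = 0 := comp_distTriang_mor_zero₃₁ T hT
    have hg' : g ≫ T.mor₃ = 0 := by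
      apply injective_comp_of_Qh (a⟦(1 : ℤ)⟧') (h₁ n)
      show (g ≫ T.mor₃) ≫ a⟦(1 : ℤ)⟧' = 0 ≫ a⟦(1 : ℤ)⟧'
      rw [Category.assoc, zero_comp]
      exact (congrArg (fun m => g ≫ m) h31).trans comp_zero
    obtain ⟨k, hk⟩ := Triangle.coyoneda_exact₃ T hT g hg'
    have hJinj : Function.Injective
        (fun φ : (HomotopyCategory.quotient Z.Modules (ComplexShape.up ℤ)).obj (unitS Z n) ⟶
          (HomotopyCategory.quotient Z.Modules (ComplexShape.up ℤ)).obj J =>
            DerivedCategory.Qh.map φ) :=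
      (CochainComplex.IsKInjective.Qh_map_bijective _ J).1
    obtain ⟨k₀, hk₀⟩ := surjective_comp_of_Qh a (h₀ n) hJinj k
    have hk₀' : k₀ ≫ a = k := hk₀
    rw [hk, ← hk₀']
    have h12 : a ≫ T.mor₂ = 0 := comp_distTriang_mor_zero₁₂ T hT
    exact (Category.assoc k₀ a T.mor₂).trans ((congrArg (fun m => k₀ ≫ m) h12).trans comp_zero)
  have hzero := isZero_gammaKh_of_hom_eq_zero (CochainComplex.mappingCone s) hvan
  -- `Γ(s)` is an isomorphism in the derived category
  have hΓ : IsIso ((DCoh.gammaKh Z).map a) := by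
    have hT' := (DCoh.gammaKh Z).map_distinguished T hT
    exact (Triangle.isZero₃_iff_isIso₁ _ hT').1 hzero
  -- naturality of the unit
  have hnat := (rgammaUnit Z).naturality a
  haveI hJu : IsIso ((rgammaUnit Z).app
      ((HomotopyCategory.quotient Z.Modules (ComplexShape.up ℤ)).obj J)) :=
    isIso_unit_app (DCoh.gammaKh Z) (rgammaUnit Z) J
  haveI h2 : IsIso ((DerivedCategory.Qh ⋙ DCoh.RΓ Z).map a) :=
    inferInstanceAs (IsIso ((DCoh.RΓ Z).map (DerivedCategory.Qh.map a)))
  have h3 : IsIso ((rgammaUnit Z).app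
      ((HomotopyCategory.quotient Z.Modules (ComplexShape.up ℤ)).obj C) ≫
        (DerivedCategory.Qh ⋙ DCoh.RΓ Z).map a) := by
    rw [← hnat]
    infer_instance
  exact IsIso.of_isIso_comp_right _ ((DerivedCategory.Qh ⋙ DCoh.RΓ Z).map a)

end Criterion

end Groth.Agent.Lib.Helper5.RGamPush
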