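import Mathlib
import Groth.Agent.Lib.Helper5.RGamPush.GamAcyc
import Groth.Agent.Lib.Helper5.Stalk.RpushRes

/-!
# `RΓ(Y, Rf_* E) ≅ RΓ(X, E)` (helper5)
-/
set_option autoImplicit false
set_option linter.unusedSectionVars false
set_option linter.unusedVariables false
set_option linter.style.haveILetI false
universe u
open CategoryTheory CategoryTheory.Limits HomologicalComplex AlgebraicGeometry Opposite
open Pretriangulated
attribute [local instance] HasDerivedCategory.standard

namespace Groth.Agent.Lib.Helper5.RGamPush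

open Groth.Agent.Lib.Helper5.LpullLib Groth.Agent.Lib.Helper5.KFlatSiteQ
  Groth.Agent.Helper3.KInjDer Groth.Agent.Lib.Helper5.MV

section Transfer

variable {Z : Scheme.{u}} {W A A' : HomotopyCategory Z.Modules (ComplexShape.up ℤ)}

theorem bijective_Qh_map_of_iso (e : A ≅ A')
    (h : Function.Bijective (fun φ : W ⟶ A => DerivedCategory.Qh.map φ)) :
    Function.Bijective (fun φ : W ⟶ A' => DerivedCategory.Qh.map φ) := by
  constructor
  · intro φ φ' hφ
    have h1 : DerivedCategory.Qh.map (φ ≫ e.inv) = DerivedCategory.Qh.map (φ' ≫ e.inv) := by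
      rw [Functor.map_comp, Functor.map_comp]
      exact congrArg (fun m => m ≫ DerivedCategory.Qh.map e.inv) hφ
    have h2 := h.1 h1
    exact (cancel_mono e.inv).1 h2
  · intro ψ
    obtain ⟨φ, hφ⟩ := h.2 (ψ ≫ DerivedCategory.Qh.map e.inv)
    refine ⟨φ ≫ e.hom, ?_⟩
    show DerivedCategory.Qh.map (φ ≫ e.hom) = ψ
    have hφ' : DerivedCategory.Qh.map φ = ψ ≫ DerivedCategory.Qh.map e.inv := hφ
    rw [Functor.map_comp, hφ', Category.assoc, ← Functor.map_comp, e.inv_hom_id,
      CategoryTheory.Functor.map_id, Category.comp_id]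

end Transfer

variable {X Y : Scheme.{u}} (f : X ⟶ Y)

/-- `f_*` on complexes -/
noncomputable abbrev pushC : CochainComplex X.Modules ℤ ⥤ CochainComplex Y.Modules ℤ :=
  (Scheme.Modules.pushforward f).mapHomologicalComplex (ComplexShape.up ℤ)

section Acyc

variable [DCoh.HasLpull f] [DCoh.HasRpush f] [DCoh.HasRΓ Y]

/-- **the direct image of a K-injective complex computes `RΓ`** -/
theorem isIso_rgammaUnit_push (I : CochainComplex X.Modules ℤ) [I.IsKInjective] :
    IsIso ((rgammaUnit Y).app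
      ((HomotopyCategory.quotient Y.Modules (ComplexShape.up ℤ)).obj ((pushC f).obj I))) := by
  apply isIso_rgammaUnit_of_bijective
  · intro n
    exact (bijective_Qh_map_push f (unitS Y n) (cell_unitS Y n) I).2
  · intro n
    have hb := bijective_Qh_map_push f (unitS Y n) (cell_unitS Y n) (I⟦(1 : ℤ)⟧)
    let e : (HomotopyCategory.quotient Y.Modules (ComplexShape.up ℤ)).obj
          ((pushC f).obj (I⟦(1 : ℤ)⟧)) ≅
        ((HomotopyCategory.quotient Y.Modules (ComplexShape.up ℤ)).obj ((pushC f).obj I))⟦(1 : ℤ)⟧ :=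
      (HomotopyCategory.quotient Y.Modules (ComplexShape.up ℤ)).mapIso
        (((pushC f).commShiftIso (1 : ℤ)).app I) ≪≫
      ((HomotopyCategory.quotient Y.Modules (ComplexShape.up ℤ)).commShiftIso (1 : ℤ)).app
        ((pushC f).obj I)
    exact (bijective_Qh_map_of_iso e hb).1

end Acyc

section Main

/-- global sections of a direct image -/
noncomputable def gammaPushIso : Scheme.Modules.pushforward f ⋙ DCoh.gammaAb Y ≅ DCoh.gammaAb X :=
  NatIso.ofComponents (fun M => Iso.refl _) (fun {M N} φ => by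
    show (Scheme.Modules.pushforward f ⋙ DCoh.gammaAb Y).map φ ≫ 𝟙 _ =
      𝟙 _ ≫ (DCoh.gammaAb X).map φ
    erw [Category.comp_id])

variable [DCoh.HasRpush f] [DCoh.HasRΓ X] [DCoh.HasRΓ Y]

/-- the comparison of the underived functors -/
noncomputable def τΓ : DCoh.gammaKh X ≅ pushK f ⋙ DCoh.gammaKh Y :=
  Functor.isoWhiskerRight
      (Functor.mapHomotopyCategoryCompIso (gammaPushIso f) (ComplexShape.up ℤ)).symm
      DerivedCategory.Qh ≪≫
    Functor.associator _ _ _

/-- the unit exhibiting `Rf_* ⋙ RΓ(Y, -)` as a right derived functor of `Γ(X, -)` -/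
noncomputable def αΓ : DCoh.gammaKh X ⟶ DerivedCategory.Qh ⋙ (DCoh.Rpush f ⋙ DCoh.RΓ Y) :=
  (τΓ f).hom ≫ Functor.whiskerLeft (pushK f) (rgammaUnit Y) ≫ (Functor.associator _ _ _).inv ≫
    Functor.whiskerRight (rpushUnit f) (DCoh.RΓ Y) ≫ (Functor.associator _ _ _).hom

theorem isRight_rpush_rgamma [DCoh.HasLpull f] :
    (DCoh.Rpush f ⋙ DCoh.RΓ Y).IsRightDerivedFunctor (αΓ f) (WK X) := by
  refine (derives (DCoh.gammaKh X)).isRightDerivedFunctor_of_isIso _ (fun I => ?_)
  haveI : CochainComplex.IsKInjective I.obj.as := I.property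
  haveI h1 : IsIso ((rpushUnit f).app
      ((HomotopyCategory.quotient X.Modules (ComplexShape.up ℤ)).obj I.obj.as)) :=
    isIso_unit_app (DCoh.pushKh f) (rpushUnit f) I.obj.as
  haveI h2 : IsIso ((rgammaUnit Y).app
      ((HomotopyCategory.quotient Y.Modules (ComplexShape.up ℤ)).obj ((pushC f).obj I.obj.as))) :=
    isIso_rgammaUnit_push f I.obj.as
  obtain ⟨⟨I⟩, hI⟩ := I
  haveI h1' : IsIso ((rpushUnit f).app ((Φ X.Modules).functor.obj ⟨⟨I⟩, hI⟩)) := h1
  haveI h2' : IsIso ((rgammaUnit Y).app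
      ((pushK f).obj ((Φ X.Modules).functor.obj ⟨⟨I⟩, hI⟩))) := h2
  haveI h3 : IsIso ((DCoh.RΓ Y).map
      ((rpushUnit f).app ((Φ X.Modules).functor.obj ⟨⟨I⟩, hI⟩))) := inferInstance
  dsimp only [αΓ, NatTrans.comp_app, Functor.associator_hom_app, Functor.associator_inv_app,
    Functor.whiskerRight_app, Functor.whiskerLeft_app]
  rw [Category.comp_id, Category.id_comp]
  infer_instance

/-- **`RΓ(Y, Rf_* -) ≅ RΓ(X, -)`** -/
noncomputable def rpushRgammaIso [DCoh.HasLpull f] : DCoh.Rpush f ⋙ DCoh.RΓ Y ≅ DCoh.RΓ X :=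
  haveI := isRight_rpush_rgamma f
  Functor.rightDerivedUnique (DCoh.Rpush f ⋙ DCoh.RΓ Y) (DCoh.RΓ X) (αΓ f) (rgammaUnit X) (WK X)

end Main

end Groth.Agent.Lib.Helper5.RGamPush
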